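import Cfsg.Agent.Lib.SuzOut.Words

/-! A certificate for the elements commuting with a given one. -/

set_option autoImplicit false
set_option maxRecDepth 100000

namespace Cfsg.Agent.SuzOut

open Cfsg.Agent.RigidGraph (slot bit allB allB_spec cnt cnt_eq Adj row_spec autG fixList mem_fixList roundsOK
  rounds_fix permOf permOf_val)
open Cfsg.Agent.RigidGraph.Suz (suzGroup graph graph_ok outer)

attribute [local irreducible] lets wordVal graph outer permOf

/-- the point `q` followed by the images of `r` under powers of a word -/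
def pAt (w : List ℕ) (q r : ℕ) : ℕ → ℕ
  | 0 => q
  | 1 => r
  | k + 2 => evW w (pAt w q r (k + 1))

/-- the common neighbours of three of these points -/
noncomputable def triVal (w : List ℕ) (q r : ℕ) (z : ℕ × ℕ × ℕ) : ℕ :=
  cnt graph (pAt w q r z.1) (Nat.land (graph.B.get (pAt w q r z.2.1)) (graph.B.get (pAt w q r z.2.2)))

/-- an outer element or not -/
def sigIf (o y : ℕ) : ℕ := bif Nat.beq o 0 then y else slot outer.1 y

/-- a listed element commutes and takes the first two points to the given ones -/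
def rowOK (w : List ℕ) (b1 : ℕ) (R : ℕ × ℕ × ℕ × List ℕ) : Bool :=
  okWord R.2.2.2 && Nat.beq (sigIf R.2.2.1 (evW R.2.2.2 0)) R.1 &&
    Nat.beq (sigIf R.2.2.1 (evW R.2.2.2 b1)) R.2.1 &&
    base.map (fun b => sigIf R.2.2.1 (evW R.2.2.2 (evW w b))) ==
      base.map (fun b => evW w (sigIf R.2.2.1 (evW R.2.2.2 b)))

/-- one candidate is listed or excluded -/
noncomputable def candOK (w : List ℕ) (b1 : ℕ) (tests : List (ℕ × ℕ × ℕ)) (rows : List (ℕ × ℕ × ℕ × List ℕ))
    (q j : ℕ) : Bool :=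
  let r := slot (graph.N.get q) j
  rows.any (fun R => Nat.beq R.1 q && Nat.beq R.2.1 r) ||
    tests.any fun z => !Nat.beq (triVal w q r z) (triVal w 0 b1 z)

/-- the whole certificate, with `L` points after the first two -/
noncomputable def centOK (w : List ℕ) (b1 L : ℕ) (tests : List (ℕ × ℕ × ℕ))
    (rows : List (ℕ × ℕ × ℕ × List ℕ)) (rounds : List (List ℕ)) : Bool :=
  okWord w && Nat.beq (evW w 0) 0 && Nat.blt b1 1782 && bit (graph.B.get 0) b1 && rows.all (rowOK w b1) &&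
  roundsOK 1782 graph ((List.range L).map (pAt w 0 b1)) rounds &&
  base.all (fun b => ((List.range L).map (pAt w 0 b1) ++ rounds.flatten).contains b) &&
  allB (fun q => !Nat.beq (evW w q) q || allB (candOK w b1 tests rows q) graph.k) 1782

theorem outer_mem : permOf 1782 outer ∈ autG 1782 graph ∧ RigidGraph.permOK 1782 outer = true := by
  have h := RigidGraph.Suz.outer_ok
  simp only [Bool.and_eq_true] at h
  exact ⟨RigidGraph.autOK_mem graph_ok h.1.1.1.1 h.1.1.1.2, h.1.1.1.1⟩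

/-- the permutation of a row -/
noncomputable def rowPerm (R : ℕ × ℕ × ℕ × List ℕ) : Equiv.Perm (Fin 1782) :=
  (bif Nat.beq R.2.2.1 0 then 1 else permOf 1782 outer) * (wordVal R.2.2.2 : Equiv.Perm (Fin 1782))

theorem rowPerm_mem (R : ℕ × ℕ × ℕ × List ℕ) : rowPerm R ∈ autG 1782 graph := by
  refine mul_mem ?_ (grp_aut (wordVal R.2.2.2).2)
  cases Nat.beq R.2.2.1 0
  · exact outer_mem.1
  · exact one_mem _

theorem rowPerm_val {R : ℕ × ℕ × ℕ × List ℕ} (hR : ∀ i ∈ R.2.2.2, i < 8) (x : Fin 1782) :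
    (rowPerm R x : ℕ) = sigIf R.2.2.1 (evW R.2.2.2 x) := by
  rw [rowPerm, Equiv.Perm.mul_apply, sigIf]
  cases Nat.beq R.2.2.1 0
  · rw [cond_false, cond_false, permOf_val outer_mem.2, act_word _ hR]
  · rw [cond_true, cond_true, Equiv.Perm.one_apply, act_word _ hR]

theorem bit_land (a b i : ℕ) : bit (Nat.land a b) i = (bit a i && bit b i) := by
  rw [RigidGraph.bit_eq_testBit, RigidGraph.bit_eq_testBit, RigidGraph.bit_eq_testBit]
  exact Nat.testBit_and a b i

theorem cnt_tri {c : Equiv.Perm (Fin 1782)} (hc : c ∈ autG 1782 graph) (y a b : Fin 1782) :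
    cnt graph (c y) (Nat.land (graph.B.get (c a)) (graph.B.get (c b))) =
      cnt graph y (Nat.land (graph.B.get a) (graph.B.get b)) := by
  classical
  rw [cnt_eq graph_ok (c y).2, cnt_eq graph_ok y.2]
  refine (Finset.card_bij (fun u _ => c u) (fun u hu => ?_) (fun _ _ _ _ e => c.injective e) fun v hv => ?_).symm
  · rw [Finset.mem_filter, bit_land, Bool.and_eq_true] at hu ⊢
    exact ⟨Finset.mem_univ _, (hc y u).2 hu.2.1, (hc a u).2 hu.2.2.1, (hc b u).2 hu.2.2.2⟩
  · refine ⟨c⁻¹ v, ?_, by simp⟩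
    rw [Finset.mem_filter, bit_land, Bool.and_eq_true] at hv ⊢
    have h1 := hc y (c⁻¹ v)
    have h2 := hc a (c⁻¹ v)
    have h3 := hc b (c⁻¹ v)
    simp only [Equiv.Perm.inv_def, Equiv.apply_symm_apply] at h1 h2 h3
    exact ⟨Finset.mem_univ _, h1.1 hv.2.1, h2.1 hv.2.2.1, h3.1 hv.2.2.2⟩

theorem cent_spec {w : List ℕ} {b1 L : ℕ} {tests : List (ℕ × ℕ × ℕ)} {rows : List (ℕ × ℕ × ℕ × List ℕ)}
    {rounds : List (List ℕ)} (h : centOK w b1 L tests rows rounds = true) {c : ↥suzGroup}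
    (hc : c * wordVal w = wordVal w * c) : ∃ R ∈ rows, R.2.2.1 = 0 ∧ c = wordVal R.2.2.2 := by
  simp only [centOK, Bool.and_eq_true, Nat.beq_eq, Nat.blt_eq, List.all_eq_true, List.contains_iff_mem] at h
  obtain ⟨⟨⟨⟨⟨⟨⟨hw, hw0⟩, hb1⟩, harc⟩, hrows⟩, hrounds⟩, hcov⟩, hcand⟩ := h
  have hw8 := okWord_mem hw
  set W : Equiv.Perm (Fin 1782) := (wordVal w : Equiv.Perm (Fin 1782))
  set C : Equiv.Perm (Fin 1782) := (c : Equiv.Perm (Fin 1782))
  have hW : ∀ x : Fin 1782, (W x : ℕ) = evW w x := act_word w hw8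
  have hCW : ∀ x, C (W x) = W (C x) := fun x => by
    have := congrArg (fun g : ↥suzGroup => (g : Equiv.Perm (Fin 1782)) x) hc
    simpa using this
  have hCm := grp_aut c.2
  -- the images of the points
  have hpt : ∀ k, ∃ p : Fin 1782, (p : ℕ) = pAt w 0 b1 k ∧
      (C p : ℕ) = pAt w (C 0 : ℕ) (C ⟨b1, hb1⟩ : ℕ) k := by
    intro k
    induction k using Nat.strong_induction_on with
    | _ k ih =>
      rcases k with _ | _ | k
      · exact ⟨0, rfl, rfl⟩
      · exact ⟨⟨b1, hb1⟩, rfl, rfl⟩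
      · obtain ⟨p, hp, hCp⟩ := ih (k + 1) (by omega)
        refine ⟨W p, by rw [hW, hp]; rfl, ?_⟩
        rw [hCW, hW, hCp]; rfl
  have hfixq : Nat.beq (evW w (C 0 : ℕ)) (C 0 : ℕ) = true := by
    rw [Nat.beq_eq, ← hW, ← hCW, show W 0 = 0 from Fin.ext ((hW 0).trans hw0)]
  have hq := allB_spec hcand (C 0).2
  rw [Bool.or_eq_true, hfixq, Bool.not_true] at hq
  have hq' := hq.resolve_left Bool.false_ne_true
  obtain ⟨j, hj, ej⟩ := ((row_spec graph_ok (C 0).2).1 _).1 ((hCm 0 ⟨b1, hb1⟩).2 harc)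
  have hj' := allB_spec hq' hj
  simp only [candOK, ej, Bool.or_eq_true, List.any_eq_true, Bool.and_eq_true, Nat.beq_eq, Bool.not_eq_true'] at hj'
  rcases hj' with ⟨R, hR, e0, e1⟩ | ⟨z, -, hne⟩
  swap
  · exfalso
    obtain ⟨p, hp, hCp⟩ := hpt z.1
    obtain ⟨a, ha, hCa⟩ := hpt z.2.1
    obtain ⟨b, hb, hCb⟩ := hpt z.2.2
    have := cnt_tri hCm p a b
    rw [hCp, hCa, hCb, hp, ha, hb] at this
    rw [show Nat.beq (triVal w (C 0 : ℕ) (C ⟨b1, hb1⟩ : ℕ) z) (triVal w 0 b1 z) = true from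
      Nat.beq_eq.mpr this] at hne
    exact Bool.noConfusion hne
  have hRok := hrows R hR
  simp only [rowOK, Bool.and_eq_true, Nat.beq_eq, beq_iff_eq] at hRok
  obtain ⟨⟨⟨hR8, hR0⟩, hR1⟩, hRc⟩ := hRok
  have hR8' := okWord_mem hR8
  set g := rowPerm R
  have hg : g ∈ autG 1782 graph := rowPerm_mem R
  have hgW : g * W = W * g := by
    refine keyP_inj (mul_mem hg (grp_aut (wordVal w).2)) (mul_mem (grp_aut (wordVal w).2) hg) ?_
    refine List.map_congr_left fun b hb => ?_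
    rw [dif_pos (base_lt hb), dif_pos (base_lt hb), Equiv.Perm.mul_apply, Equiv.Perm.mul_apply,
      rowPerm_val hR8', hW, hW, rowPerm_val hR8']
    exact List.map_inj_left.1 hRc b hb
  have hd0 : ∀ k, ∃ p : Fin 1782, (p : ℕ) = pAt w 0 b1 k ∧ g p = C p := by
    intro k
    induction k using Nat.strong_induction_on with
    | _ k ih =>
      rcases k with _ | _ | k
      · exact ⟨0, rfl, Fin.ext ((rowPerm_val hR8' 0).trans (hR0.trans e0))⟩
      · exact ⟨⟨b1, hb1⟩, rfl, Fin.ext ((rowPerm_val hR8' _).trans (hR1.trans e1))⟩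
      · obtain ⟨p, hp, hgp⟩ := ih (k + 1) (by omega)
        refine ⟨W p, by rw [hW, hp]; rfl, ?_⟩
        rw [hCW, ← Equiv.Perm.mul_apply g W, hgW, Equiv.Perm.mul_apply, hgp]
  have hlt : ∀ b ∈ (List.range L).map (pAt w 0 b1), b < 1782 := by
    intro b hb
    obtain ⟨k, -, rfl⟩ := List.mem_map.1 hb
    obtain ⟨p, hp, -⟩ := hd0 k
    exact hp ▸ p.2
  obtain ⟨-, hle⟩ := rounds_fix graph_ok rounds _ hrounds hlt
  have hd : g⁻¹ * C ∈ autG 1782 graph ⊓ fixList 1782 ((List.range L).map (pAt w 0 b1)) := by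
    refine Subgroup.mem_inf.2 ⟨mul_mem (inv_mem hg) hCm, mem_fixList.2 fun x hx => ?_⟩
    obtain ⟨k, -, ek⟩ := List.mem_map.1 hx
    obtain ⟨p, hp, hgp⟩ := hd0 k
    rw [show x = p from Fin.ext (ek.symm.trans hp.symm), Equiv.Perm.mul_apply, Equiv.Perm.inv_eq_iff_eq, hgp]
  have hbot : g⁻¹ * C ∈ autG 1782 graph ⊓ fixList 1782 [0, 135, 142, 203, 44, 208, 11, 253] := by
    refine Subgroup.mem_inf.2 ⟨mul_mem (inv_mem hg) hCm, mem_fixList.2 fun x hx => ?_⟩
    exact (mem_fixList.1 (hle hd)) x (hcov _ hx)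
  rw [aut_fix_bot, Subgroup.mem_bot, inv_mul_eq_one] at hbot
  refine ⟨R, hR, ?_, ?_⟩
  all_goals
    cases ho : Nat.beq R.2.2.1 0
  · exfalso
    have hs := congrArg Equiv.Perm.sign hbot
    simp only [g, rowPerm, ho, cond_false, map_mul] at hs
    rw [RigidGraph.Suz.sign_outer, RigidGraph.Suz.sign_grp (wordVal R.2.2.2).2, RigidGraph.Suz.sign_grp c.2,
      mul_one] at hs
    exact RigidGraph.Suz.neg_one_ne hs
  · exact Nat.eq_of_beq_eq_true ho
  · exfalso
    have hs := congrArg Equiv.Perm.sign hbot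
    simp only [g, rowPerm, ho, cond_false, map_mul] at hs
    rw [RigidGraph.Suz.sign_outer, RigidGraph.Suz.sign_grp (wordVal R.2.2.2).2, RigidGraph.Suz.sign_grp c.2,
      mul_one] at hs
    exact RigidGraph.Suz.neg_one_ne hs
  · simp only [g, rowPerm, ho, cond_true, one_mul] at hbot
    exact Subtype.ext hbot.symm

end Cfsg.Agent.SuzOut
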