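import Cfsg.Agent.Lib.SuzOut.CentCert
import Cfsg.Prelude.Def_KGroupFacts
import Mathlib.GroupTheory.Sylow
import Mathlib.GroupTheory.Index

/-! At most two outer classes of automorphisms. -/

set_option autoImplicit false
set_option maxRecDepth 100000
set_option Elab.async false

namespace Cfsg.Agent.SuzOut

open Cfsg
open Cfsg.Agent.PermCert (allBelow allBelow_spec)
open Cfsg.Agent.RigidGraph.Suz (suzGroup card_suzGroup)

attribute [local irreducible] lets wordVal RigidGraph.Suz.nodes RigidGraph.permOf RigidGraph.Suz.graph RigidGraph.Suz.outer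

/-- a power of `x` -/
def xW (j : ℕ) : List ℕ := wXs.getD j []

/-- a row of the centraliser of `h` -/
def hRow (k : ℕ) : List ℕ := (hRows.getD k (0, 0, 0, [])).2.2.2

/-- the word of the third element -/
def wT : List ℕ := hRow tRow

/-- a word in `x ^ j * r`, with exponents multiplied by `e` -/
def tWord (e : ℕ) (r : List ℕ) (l : List ℕ) : List ℕ := l.flatMap fun j => xW (e * j % 13) ++ r

/-- the distinguishing word -/
def testWord (e : ℕ) (r : List ℕ) (l : List ℕ) (m : ℕ) : List ℕ := (List.replicate m (tWord e r l)).flatten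

/-- a candidate is `t`, the twin, or is distinguished from `t` -/
def distOK (e k : ℕ) (c : List ℕ × ℕ) : Bool :=
  bif c.1 == [] then (Nat.beq e 1 && Nat.beq k tRow) || (Nat.beq e twin.1 && Nat.beq k twin.2)
  else (keyOf (testWord 1 wT c.1 c.2) == base) != (keyOf (testWord e (hRow k) c.1 c.2) == base)

/-- both candidates of a row -/
def rowDistOK (k : ℕ) : Bool :=
  let d := hDist.getD k (([], 0), ([], 0))
  !Nat.beq (hRows.getD k (0, 0, 0, [])).2.2.1 0 || (okWord (hRow k) && distOK 1 k d.1 && distOK 2 k d.2)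

/-- the inverse of the third element -/
def wTi : List ℕ := (List.replicate 11 wT).flatten

/-- a symbol -/
def symW (q : ℕ) : List ℕ := [xW 1, wT, xW 12, wTi, wH].getD q []

/-- the words and their relations -/
def outWordsOK : Bool :=
  allBelow (fun j => okWord (xW j)) 13 && keyOf (xW 0) == base &&
  allBelow (fun j => keyOf (xW 1 ++ xW j) == keyOf (xW ((j + 1) % 13))) 13 &&
  !(keyOf (xW 1) == base) && okWord wH && keyOf (wH ++ xW 1) == keyOf (xW 4 ++ wH) && okWord wT &&
  keyOf (wH ++ wT) == keyOf (wT ++ wH) && keyOf (wT ++ wTi) == base &&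
  keyOf ((wNodes.getD 0 []).flatMap symW) == keyOf [0] &&
  keyOf ((wNodes.getD 1 []).flatMap symW) == keyOf [2] &&
  (wNodes.getD 0 []).all (fun q => Nat.blt q 5) && (wNodes.getD 1 []).all (fun q => Nat.blt q 5) &&
  Nat.beq (alpha.getD 0 0) 0 && Nat.beq (alpha.getD 2 0) 2

theorem rowDist_ok : allBelow rowDistOK hRows.length = true := by decide +kernel

theorem outWords_ok : outWordsOK = true := by decide +kernel

theorem xCent_ok : centOK (xW 1) xB1 14 xTests xRows xRounds = true := by decide +kernel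

theorem hCent_ok : centOK wH hB1 7 hTests hRows hRounds = true := by decide +kernel

/-- the rows of the centraliser of `x` are its powers -/
def xRowsOK : Bool := xRows.all fun R => !Nat.beq R.2.2.1 0 || (List.range 13).any fun j => keyOf R.2.2.2 == keyOf (xW j)

theorem xRows_ok : xRowsOK = true := by decide +kernel

theorem word_facts : (∀ q, ∀ i ∈ xW q, i < 8) ∧ (∀ i ∈ wH, i < 8) ∧ (∀ i ∈ wT, i < 8) ∧ (∀ i ∈ wTi, i < 8) := by
  have h := outWords_ok
  simp only [outWordsOK, Bool.and_eq_true] at h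
  have hT := okWord_mem h.1.1.1.1.1.1.1.1.2
  refine ⟨fun q => ?_, okWord_mem h.1.1.1.1.1.1.1.1.1.1.2, hT, fun i hi => ?_⟩
  · rcases lt_or_ge q 13 with hq | hq
    · exact okWord_mem (allBelow_spec _ _ h.1.1.1.1.1.1.1.1.1.1.1.1.1.1 q hq)
    · have : wXs.length = 13 := rfl
      intro i hi
      rw [xW, List.getD_eq_default _ _ (this ▸ hq)] at hi
      simp at hi
  · obtain ⟨w, hw, hiw⟩ := List.mem_flatten.1 hi
    rw [List.eq_of_mem_replicate hw] at hiw
    exact hT i hiw

/-- the element of order 13 -/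
noncomputable def xH : ↥suzGroup := wordVal (xW 1)

/-- the element of order 6 normalising its powers -/
noncomputable def hH : ↥suzGroup := wordVal wH

/-- the third element -/
noncomputable def tH : ↥suzGroup := wordVal wT

theorem xs_pow : ∀ j, wordVal (xW (j % 13)) = xH ^ j := by
  intro j
  have h := outWords_ok
  simp only [outWordsOK, Bool.and_eq_true, beq_iff_eq] at h
  induction j with
  | zero => rw [pow_zero, Nat.zero_mod, eq_one_iff (word_facts.1 0), h.1.1.1.1.1.1.1.1.1.1.1.1.1.2]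
  | succ j ih =>
    have h' := allBelow_spec _ _ h.1.1.1.1.1.1.1.1.1.1.1.1.2 (j % 13) (Nat.mod_lt _ (by norm_num))
    rw [show (j % 13 + 1) % 13 = (j + 1) % 13 by omega] at h'
    rw [pow_succ', ← ih, xH, ← wordVal_append]
    exact (eq_of_key (append_lt (word_facts.1 _) (word_facts.1 _)) (word_facts.1 _) (beq_iff_eq.1 h')).symm

theorem orderOf_x : orderOf xH = 13 := by
  have : Fact (Nat.Prime 13) := ⟨by norm_num⟩
  refine orderOf_eq_prime ?_ ?_
  · rw [← xs_pow, Nat.mod_self, ← pow_zero xH, ← xs_pow]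
  · have h := outWords_ok
    simp only [outWordsOK, Bool.and_eq_true, Bool.not_eq_true', beq_eq_false_iff_ne] at h
    exact fun e => h.1.1.1.1.1.1.1.1.1.1.1.2 ((eq_one_iff (word_facts.1 1)).1 e)

theorem pow_congr {a b : ℕ} (h : a % 13 = b % 13) : xH ^ a = xH ^ b := by
  rw [← pow_mod_orderOf xH a, ← pow_mod_orderOf xH b, orderOf_x, h]

theorem centralizer_x {c : ↥suzGroup} (hc : c * xH = xH * c) : ∃ i : ℕ, c = xH ^ i := by
  obtain ⟨R, hR, h0, rfl⟩ := cent_spec xCent_ok hc
  have h := List.all_eq_true.1 xRows_ok R hR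
  simp only [h0, Nat.beq_refl, Bool.not_true, Bool.false_or, List.any_eq_true, List.mem_range, beq_iff_eq] at h
  obtain ⟨j, hj, e⟩ := h
  have hx := xCent_ok
  simp only [centOK, Bool.and_eq_true, List.all_eq_true, rowOK] at hx
  exact ⟨j, by rw [← xs_pow, Nat.mod_eq_of_lt hj]; exact eq_of_key (okWord_mem (hx.1.1.1.2 R hR).1.1.1) (word_facts.1 j) e⟩

theorem hH_x : hH * xH * hH⁻¹ = xH ^ 4 := by
  have h := outWords_ok
  simp only [outWordsOK, Bool.and_eq_true] at h
  rw [mul_inv_eq_iff_eq_mul, ← xs_pow 4, hH, xH, ← wordVal_append, ← wordVal_append]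
  exact eq_of_key (append_lt word_facts.2.1 (word_facts.1 1)) (append_lt (word_facts.1 4) word_facts.2.1)
    (beq_iff_eq.1 h.1.1.1.1.1.1.1.1.1.2)

theorem hH_pow : ∀ i : ℕ, hH ^ i * xH * (hH ^ i)⁻¹ = xH ^ 4 ^ i := by
  intro i
  induction i with
  | zero => simp
  | succ i ih =>
    rw [pow_succ', mul_inv_rev, show hH * hH ^ i * xH * ((hH ^ i)⁻¹ * hH⁻¹) = hH * (hH ^ i * xH * (hH ^ i)⁻¹) * hH⁻¹ by group,
      ih, ← conj_pow, hH_x, ← pow_mul, mul_comm, ← pow_succ]

theorem hH_swap (m : ℕ) : xH ^ m * hH = hH * xH ^ (10 * m) := by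
  have e : hH * xH ^ (10 * m) * hH⁻¹ = xH ^ m := by
    rw [← conj_pow, hH_x, ← pow_mul]
    exact pow_congr (by omega)
  rw [← e]; group

theorem pow_third (k : ℕ) : xH ^ (3 * k) * hH * (xH ^ (3 * k))⁻¹ = hH * xH ^ k := by
  rw [mul_inv_eq_iff_eq_mul, hH_swap, mul_assoc, ← pow_add]
  exact congrArg (hH * ·) (pow_congr (by omega))

theorem map_xW (φ : MulAut ↥suzGroup) {e : ℕ} (hx : φ xH = xH ^ e) (j : ℕ) :
    φ (wordVal (xW (1 * j % 13))) = wordVal (xW (e * j % 13)) := by
  rw [one_mul, xs_pow, xs_pow, map_pow, hx, ← pow_mul]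

theorem tWord_lt {r : List ℕ} (hr : ∀ i ∈ r, i < 8) (e : ℕ) (l : List ℕ) : ∀ i ∈ tWord e r l, i < 8 := by
  intro i hi
  obtain ⟨j, -, hj⟩ := List.mem_flatMap.1 hi
  exact append_lt (word_facts.1 _) hr i hj

theorem testWord_lt {r : List ℕ} (hr : ∀ i ∈ r, i < 8) (e : ℕ) (l : List ℕ) (m : ℕ) :
    ∀ i ∈ testWord e r l m, i < 8 := by
  intro i hi
  obtain ⟨w, hw, hiw⟩ := List.mem_flatten.1 hi
  rw [List.eq_of_mem_replicate hw] at hiw
  exact tWord_lt hr e l i hiw

theorem map_tWord (φ : MulAut ↥suzGroup) {e : ℕ} (hx : φ xH = xH ^ e) {r r' : List ℕ}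
    (hr : φ (wordVal r) = wordVal r') :
    ∀ l : List ℕ, φ (wordVal (tWord 1 r l)) = wordVal (tWord e r' l) := by
  intro l
  induction l with
  | nil => simp [tWord, val_nil]
  | cons j l ih =>
    simp only [tWord, List.flatMap_cons] at ih ⊢
    rw [wordVal_append, wordVal_append, wordVal_append, wordVal_append, map_mul, map_mul, ih, map_xW φ hx, hr]

theorem map_testWord (φ : MulAut ↥suzGroup) {e : ℕ} (hx : φ xH = xH ^ e) {r r' : List ℕ}
    (hr : φ (wordVal r) = wordVal r') (l : List ℕ) :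
    ∀ m : ℕ, φ (wordVal (testWord 1 r l m)) = wordVal (testWord e r' l m) := by
  intro m
  induction m with
  | zero => simp [testWord, val_nil]
  | succ m ih =>
    simp only [testWord, List.replicate_succ, List.flatten_cons] at ih ⊢
    rw [wordVal_append, wordVal_append, map_mul, ih, map_tWord φ hx hr]

/-- automorphisms fixing `h` and sending `x` to itself or its square -/
def Norm (φ : MulAut ↥suzGroup) : Prop := (φ xH = xH ∨ φ xH = xH ^ 2) ∧ φ hH = hH

theorem image_t {φ : MulAut ↥suzGroup} (h : Norm φ) :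
    (φ xH = xH ∧ φ tH = tH) ∨ (φ xH = xH ^ twin.1 ∧ φ tH = wordVal (hRow twin.2)) := by
  obtain ⟨e, he, hx⟩ : ∃ e, (e = 1 ∨ e = 2) ∧ φ xH = xH ^ e := by
    rcases h.1 with h1 | h1
    · exact ⟨1, Or.inl rfl, by rw [pow_one]; exact h1⟩
    · exact ⟨2, Or.inr rfl, h1⟩
  have hw := outWords_ok
  simp only [outWordsOK, Bool.and_eq_true, beq_iff_eq] at hw
  have hth : hH * tH = tH * hH := by
    rw [tH, hH, ← wordVal_append, ← wordVal_append]
    exact eq_of_key (append_lt word_facts.2.1 word_facts.2.2.1) (append_lt word_facts.2.2.1 word_facts.2.1)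
      hw.1.1.1.1.1.1.1.2
  have hu : φ tH * wordVal wH = wordVal wH * φ tH := by
    have := congrArg φ hth
    rw [map_mul, map_mul, h.2] at this
    exact this.symm
  obtain ⟨R, hR, h0, ek⟩ := cent_spec hCent_ok hu
  obtain ⟨k, hk, rfl⟩ := List.getElem_of_mem hR
  have hcand := allBelow_spec _ _ rowDist_ok k hk
  have hgk : hRows.getD k (0, 0, 0, []) = hRows[k] := List.getD_eq_getElem _ _ hk
  simp only [rowDistOK, hgk, h0, Nat.beq_refl, Bool.not_true, Bool.false_or, Bool.and_eq_true] at hcand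
  have ek' : φ tH = wordVal (hRow k) := by rw [ek, hRow, hgk]
  obtain ⟨c, hc⟩ : ∃ c, distOK e k c = true := by
    rcases he with rfl | rfl
    · exact ⟨_, hcand.1.2⟩
    · exact ⟨_, hcand.2⟩
  have hlt := okWord_mem hcand.1.1
  simp only [distOK] at hc
  by_cases hl : c.1 = []
  · rw [show (c.1 == []) = true from beq_iff_eq.2 hl, cond_true, Bool.or_eq_true, Bool.and_eq_true,
      Bool.and_eq_true, Nat.beq_eq, Nat.beq_eq, Nat.beq_eq, Nat.beq_eq] at hc
    rcases hc with ⟨rfl, rfl⟩ | ⟨rfl, rfl⟩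
    · exact Or.inl ⟨by rw [hx, pow_one], ek'⟩
    · exact Or.inr ⟨hx, ek'⟩
  · rw [show (c.1 == []) = false from beq_eq_false_iff_ne.2 hl, cond_false] at hc
    exfalso
    have em := map_testWord φ hx (r := wT) ek' c.1 c.2
    have hiff : (keyOf (testWord 1 wT c.1 c.2) == base) = (keyOf (testWord e (hRow k) c.1 c.2) == base) := by
      rw [Bool.eq_iff_iff, beq_iff_eq, beq_iff_eq, ← eq_one_iff (testWord_lt word_facts.2.2.1 _ _ _),
        ← eq_one_iff (testWord_lt hlt _ _ _), ← em]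
      exact ⟨fun h0 => by rw [h0, map_one], fun h0 => φ.injective (by rw [h0, map_one])⟩
    rw [hiff] at hc
    simp at hc

theorem ext_of {φ ψ : MulAut ↥suzGroup} (hx : φ xH = ψ xH) (ht : φ tH = ψ tH) (hh : φ hH = ψ hH) : φ = ψ := by
  have hw := outWords_ok
  simp only [outWordsOK, Bool.and_eq_true, beq_iff_eq, List.all_eq_true, Nat.blt_eq, Nat.beq_eq] at hw
  obtain ⟨⟨⟨⟨⟨⟨⟨-, hti⟩, n0⟩, n1⟩, q0⟩, q1⟩, a0⟩, a2⟩ := hw
  have h12 : φ (wordVal (xW 12)) = ψ (wordVal (xW 12)) := by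
    rw [show (12 : ℕ) = 12 % 13 from rfl, xs_pow, map_pow, map_pow, hx]
  have hi : φ (wordVal wTi) = ψ (wordVal wTi) := by
    have e : wordVal wTi = tH⁻¹ := by
      refine eq_inv_of_mul_eq_one_right ?_
      rw [tH, ← wordVal_append, eq_one_iff (append_lt word_facts.2.2.1 word_facts.2.2.2)]
      exact hti
    rw [e, map_inv, map_inv, ht]
  have hsym : ∀ q < 5, φ (wordVal (symW q)) = ψ (wordVal (symW q)) := by
    intro q hq
    interval_cases q
    · exact hx
    · exact ht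
    · exact h12
    · exact hi
    · exact hh
  have hflat : ∀ u : List ℕ, (∀ q ∈ u, q < 5) →
      φ (wordVal (u.flatMap symW)) = ψ (wordVal (u.flatMap symW)) := by
    intro u
    induction u with
    | nil => intro _; rw [List.flatMap_nil, val_nil, map_one, map_one]
    | cons q u ih =>
      intro hu
      rw [List.flatMap_cons, wordVal_append, map_mul, map_mul, hsym q (hu q List.mem_cons_self),
        ih fun r hr => hu r (List.mem_cons_of_mem _ hr)]
  have hflt : ∀ u : List ℕ, ∀ i ∈ u.flatMap symW, i < 8 := by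
    intro u i hi
    obtain ⟨q, -, hq⟩ := List.mem_flatMap.1 hi
    unfold symW at hq
    rcases q with _ | _ | _ | _ | _ | q
    · exact word_facts.1 1 i hq
    · exact word_facts.2.2.1 i hq
    · exact word_facts.1 12 i hq
    · exact word_facts.2.2.2 i hq
    · exact word_facts.2.1 i hq
    · simp at hq
  have h8 : ∀ a : ℕ, a < 8 → ∀ i ∈ [a], i < 8 := fun a ha i hi => (List.mem_singleton.1 hi) ▸ ha
  have hgen : ∀ a, (a = 0 ∨ a = 2) → φ (gen a) = ψ (gen a) := by
    intro a ha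
    have e : gen a = wordVal [a] := by simp [wordVal]
    rcases ha with rfl | rfl <;> rw [e]
    · rw [← eq_of_key (hflt _) (h8 0 (by norm_num)) n0]; exact hflat _ q0
    · rw [← eq_of_key (hflt _) (h8 2 (by norm_num)) n1]; exact hflat _ q1
  have g0 : (gen 0 : Equiv.Perm (Fin 1782)) = RigidGraph.permOf 1782 (RigidGraph.Suz.nodes.getD 0 (0, 0)) := by
    rw [gen_val (by norm_num), a0]; rfl
  have g1 : (gen 2 : Equiv.Perm (Fin 1782)) = RigidGraph.permOf 1782 (RigidGraph.Suz.nodes.getD 1 (0, 0)) := by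
    rw [gen_val (by norm_num), a2]; rfl
  refine MulEquiv.ext fun g => ?_
  obtain ⟨g, hg⟩ := g
  induction hg using Subgroup.closure_induction with
  | mem y hy =>
    rcases hy with rfl | hy
    · have := hgen 0 (Or.inl rfl)
      exact (congrArg φ (Subtype.ext g0.symm)).trans (this.trans (congrArg ψ (Subtype.ext g0)))
    · rw [Set.mem_singleton_iff] at hy
      subst hy
      have := hgen 2 (Or.inr rfl)
      exact (congrArg φ (Subtype.ext g1.symm)).trans (this.trans (congrArg ψ (Subtype.ext g1)))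
  | one => exact (map_one φ).trans (map_one ψ).symm
  | mul a b ha hb iha ihb =>
    exact (map_mul φ ⟨a, ha⟩ ⟨b, hb⟩).trans ((congrArg₂ (· * ·) iha ihb).trans (map_mul ψ ⟨a, ha⟩ ⟨b, hb⟩).symm)
  | inv a ha iha =>
    exact (map_inv φ ⟨a, ha⟩).trans ((congrArg (·⁻¹) iha).trans (map_inv ψ ⟨a, ha⟩).symm)

theorem exists_four_pow : ∀ j < 13, j ≠ 0 → ∃ i < 6, ∃ e ∈ [1, 2], 4 ^ i * e % 13 = j := by decide +kernel

theorem sylow_conj (φ : MulAut ↥suzGroup) : ∃ g : ↥suzGroup, ∃ j : ℕ, j % 13 ≠ 0 ∧ φ xH = g * xH ^ j * g⁻¹ := by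
  have : Fact (Nat.Prime 13) := ⟨by norm_num⟩
  have hf : (Nat.card ↥suzGroup).factorization 13 = 1 := by
    rw [card_suzGroup]
    refine le_antisymm ?_ ((Nat.Prime.dvd_iff_one_le_factorization (by norm_num) (by norm_num)).1 (by norm_num))
    by_contra hlt
    have : 13 ^ 2 ∣ (448345497600 : ℕ) :=
      (Nat.Prime.pow_dvd_iff_le_factorization (by norm_num) (by norm_num)).2 (by omega)
    norm_num at this
  have hP : ∀ z : ↥suzGroup, orderOf z = 13 →
      Nat.card (Subgroup.zpowers z) = 13 ^ (Nat.card ↥suzGroup).factorization 13 :=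
    fun z hz => by rw [Nat.card_zpowers, hz, hf, pow_one]
  have hz : orderOf (φ xH) = 13 := by rw [← orderOf_x]; exact MulEquiv.orderOf_eq φ xH
  obtain ⟨g, hg⟩ := MulAction.exists_smul_eq ↥suzGroup (Sylow.ofCard _ (hP _ orderOf_x)) (Sylow.ofCard _ (hP _ hz))
  have hmem : φ xH ∈ (Subgroup.zpowers xH).map (MulAut.conj g).toMonoidHom := by
    have h2 : (((g • Sylow.ofCard _ (hP _ orderOf_x) : Sylow 13 ↥suzGroup)) : Subgroup ↥suzGroup) =
        Subgroup.zpowers (φ xH) := by rw [hg]; rfl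
    have h3 : (((g • Sylow.ofCard _ (hP _ orderOf_x) : Sylow 13 ↥suzGroup)) : Subgroup ↥suzGroup) =
        (Subgroup.zpowers xH).map (MulAut.conj g).toMonoidHom := rfl
    rw [← h3, h2]
    exact Subgroup.mem_zpowers _
  obtain ⟨y, hy, e⟩ := Subgroup.mem_map.1 hmem
  obtain ⟨j, rfl⟩ := (Submonoid.mem_powers_iff _ _).1 ((mem_powers_iff_mem_zpowers).2 hy)
  refine ⟨g, j, fun h0 => ?_, e.symm.trans (MulAut.conj_apply g _)⟩
  have h1 : φ xH = 1 := by
    rw [← e, ← pow_mod_orderOf, orderOf_x, h0, pow_zero, map_one]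
  rw [h1, orderOf_one] at hz
  norm_num at hz

/-- every automorphism is a normalised one up to an inner one -/
theorem exists_norm (φ : MulAut ↥suzGroup) : ∃ ψ, Norm ψ ∧ φ⁻¹ * ψ ∈ Inn ↥suzGroup := by
  obtain ⟨g, j, hj, hg⟩ := sylow_conj φ
  obtain ⟨i, -, e, he, hie⟩ := exists_four_pow (j % 13) (Nat.mod_lt _ (by norm_num)) hj
  set c : ↥suzGroup := g * hH ^ i with hc
  set φ1 : MulAut ↥suzGroup := MulAut.conj c⁻¹ * φ with hφ1
  have hx1 : φ1 xH = xH ^ e := by
    have e1 : xH ^ j = hH ^ i * xH ^ e * (hH ^ i)⁻¹ := by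
      rw [← conj_pow, hH_pow, ← pow_mul]
      exact pow_congr (by rw [hie])
    rw [hφ1, MulAut.mul_apply, hg, MulAut.conj_apply, e1, hc]
    group
  obtain ⟨f, hf⟩ : ∃ f : ℕ, (xH ^ e) ^ f = xH := by
    rcases List.mem_cons.1 he with rfl | he
    · exact ⟨1, by simp⟩
    · rcases List.mem_singleton.1 he with rfl
      exact ⟨7, by rw [← pow_mul]; exact (pow_congr (show 2 * 7 % 13 = 1 % 13 by norm_num)).trans (pow_one _)⟩
  have hnorm : φ1 hH * xH * (φ1 hH)⁻¹ = xH ^ 4 := by
    have h1 : φ1 hH * xH ^ e * (φ1 hH)⁻¹ = (xH ^ e) ^ 4 := by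
      rw [← hx1, ← map_inv, ← map_mul, ← map_mul, hH_x, map_pow]
    have h2 := congrArg (fun a => a ^ f) h1
    simp only [conj_pow] at h2
    rw [← pow_mul (xH ^ e) 4 f, mul_comm 4 f, pow_mul (xH ^ e) f 4, hf] at h2
    exact h2
  have hcx : (hH⁻¹ * φ1 hH) * xH = xH * (hH⁻¹ * φ1 hH) := by
    rw [mul_assoc, mul_inv_eq_iff_eq_mul.1 hnorm, ← hH_x]
    group
  obtain ⟨k, hk⟩ := centralizer_x hcx
  have hh1 : φ1 hH = hH * xH ^ k := by rw [← hk, mul_inv_cancel_left]
  refine ⟨MulAut.conj (xH ^ (3 * k))⁻¹ * φ1, ⟨?_, ?_⟩, ?_⟩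
  · have : (MulAut.conj (xH ^ (3 * k))⁻¹ * φ1) xH = xH ^ e := by
      rw [MulAut.mul_apply, hx1, MulAut.conj_apply, inv_inv, mul_assoc, ← pow_add, add_comm, pow_add,
        inv_mul_cancel_left]
    rcases List.mem_cons.1 he with rfl | he
    · left; rw [this, pow_one]
    · right; rcases List.mem_singleton.1 he with rfl; exact this
  · rw [MulAut.mul_apply, hh1, ← pow_third, MulAut.conj_apply]
    group
  · rw [hφ1, show φ⁻¹ * (MulAut.conj (xH ^ (3 * k))⁻¹ * (MulAut.conj c⁻¹ * φ)) =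
      φ⁻¹ * (MulAut.conj (xH ^ (3 * k))⁻¹ * MulAut.conj c⁻¹) * φ by group, ← map_mul]
    exact (inferInstance : (Inn ↥suzGroup).Normal).conj_mem' _ ⟨_, rfl⟩ φ

theorem card_out_le : Nat.card (Out ↥suzGroup) ≤ 2 := by
  classical
  let f : {φ // Norm φ} → Bool := fun φ => decide (φ.1 xH = xH ∧ φ.1 tH = tH)
  have hf : Function.Injective f := by
    rintro ⟨φ, hφ⟩ ⟨ψ, hψ⟩ e
    simp only [f, decide_eq_decide] at e
    refine Subtype.ext ?_
    by_cases h : φ xH = xH ∧ φ tH = tH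
    · exact ext_of (h.1.trans (e.1 h).1.symm) (h.2.trans (e.1 h).2.symm) (hφ.2.trans hψ.2.symm)
    · obtain ⟨a, b⟩ := (image_t hφ).resolve_left h
      obtain ⟨a', b'⟩ := (image_t hψ).resolve_left fun h' => h (e.2 h')
      exact ext_of (a.trans a'.symm) (b.trans b'.symm) (hφ.2.trans hψ.2.symm)
  calc Nat.card (Out ↥suzGroup) ≤ Nat.card {φ // Norm φ} := by
        haveI : Finite {φ // Norm φ} := Finite.of_injective f hf
        refine Nat.card_le_card_of_surjective (fun φ => (QuotientGroup.mk φ.1 : Out ↥suzGroup)) fun o => ?_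
        obtain ⟨φ, rfl⟩ := QuotientGroup.mk_surjective o
        obtain ⟨ψ, hψ, hi⟩ := exists_norm φ
        exact ⟨⟨ψ, hψ⟩, (QuotientGroup.eq.2 hi).symm⟩
    _ ≤ 2 := by simpa using Nat.card_le_card_of_injective f hf

end Cfsg.Agent.SuzOut
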