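import Cfsg.Agent.Lib.SuzOut.OutAut

/-! The outer automorphism group has order 2. -/

set_option autoImplicit false
set_option maxRecDepth 100000
set_option Elab.async false

namespace Cfsg.Agent.SuzOut

open Cfsg
open Cfsg.Agent.RigidGraph (allB allB_spec permOf permOf_val slot)
open Cfsg.Agent.RigidGraph.Suz (suzGroup outer sign_outer sign_grp neg_one_ne)

attribute [local irreducible] lets wordVal RigidGraph.Suz.nodes RigidGraph.Suz.graph outer permOf

/-- two letters have only the first point in common as a fixed point -/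
noncomputable def fixOK : Bool :=
  allB (fun q => Nat.beq q 0 || !(Nat.beq (evW [4] q) q && Nat.beq (evW [5] q) q)) 1782 &&
    Nat.beq (evW [4] 0) 0 && Nat.beq (evW [5] 0) 0

/-- conjugates of the generators by the outer permutation -/
def sigmaOK : Bool :=
  allBelowTwo (fun a => okWord (wSigma.getD a []) &&
    base.map (fun b => slot outer.1 (evW [2 * a] b)) == base.map (fun b => evW (wSigma.getD a []) (slot outer.1 b)))
where
  /-- both indices -/
  allBelowTwo (f : ℕ → Bool) : Bool := f 0 && f 1

theorem fix_ok : fixOK = true := by decide +kernel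

theorem sigma_ok : sigmaOK = true := by decide +kernel

theorem h8 {a : ℕ} (ha : a < 8) : ∀ i ∈ [a], i < 8 := fun i hi => (List.mem_singleton.1 hi) ▸ ha

theorem gen_conj {a : ℕ} (ha : a = 0 ∨ a = 1) :
    permOf 1782 outer * (wordVal [2 * a] : Equiv.Perm (Fin 1782)) * (permOf 1782 outer)⁻¹ ∈ suzGroup := by
  have h := sigma_ok
  simp only [sigmaOK, sigmaOK.allBelowTwo, Bool.and_eq_true, beq_iff_eq] at h
  obtain ⟨hw, hk⟩ : okWord (wSigma.getD a []) = true ∧
      base.map (fun b => slot outer.1 (evW [2 * a] b)) =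
        base.map (fun b => evW (wSigma.getD a []) (slot outer.1 b)) := by
    rcases ha with rfl | rfl
    · exact h.1
    · exact h.2
  have h2a : ∀ i ∈ [2 * a], i < 8 := h8 (by omega)
  have e : permOf 1782 outer * (wordVal [2 * a] : Equiv.Perm (Fin 1782)) =
      (wordVal (wSigma.getD a []) : Equiv.Perm (Fin 1782)) * permOf 1782 outer := by
    refine keyP_inj (mul_mem outer_mem.1 (grp_aut (wordVal _).2)) (mul_mem (grp_aut (wordVal _).2) outer_mem.1) ?_
    refine List.map_congr_left fun b hb => ?_
    rw [dif_pos (base_lt hb), dif_pos (base_lt hb), Equiv.Perm.mul_apply, Equiv.Perm.mul_apply,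
      permOf_val outer_mem.2, act_word _ h2a, act_word _ (okWord_mem hw), permOf_val outer_mem.2]
    exact List.map_inj_left.1 hk b hb
  rw [e, mul_inv_cancel_right]
  exact (wordVal _).2

theorem conj_mem {g : Equiv.Perm (Fin 1782)} (hg : g ∈ suzGroup) :
    permOf 1782 outer * g * (permOf 1782 outer)⁻¹ ∈ suzGroup := by
  have hv : ∀ a, a < 8 → (wordVal [a] : Equiv.Perm (Fin 1782)) =
      permOf 1782 (RigidGraph.getN RigidGraph.Suz.nodes (alpha.getD a 0)) := fun a ha => by
    have e : wordVal [a] = gen a := by simp [wordVal]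
    rw [e, gen_val ha]
  induction hg using Subgroup.closure_induction with
  | mem y hy =>
    rcases hy with rfl | hy
    · have := gen_conj (a := 0) (Or.inl rfl)
      rw [hv _ (by norm_num), show alpha.getD (2 * 0) 0 = 0 from rfl] at this
      exact this
    · rw [Set.mem_singleton_iff] at hy
      subst hy
      have := gen_conj (a := 1) (Or.inr rfl)
      rw [hv _ (by norm_num), show alpha.getD (2 * 1) 0 = 2 from rfl] at this
      exact this
  | one => simp
  | mul a b _ _ iha ihb =>
    rw [show permOf 1782 outer * (a * b) * (permOf 1782 outer)⁻¹ = permOf 1782 outer * a * (permOf 1782 outer)⁻¹ *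
      (permOf 1782 outer * b * (permOf 1782 outer)⁻¹) by group]
    exact mul_mem iha ihb
  | inv a _ iha =>
    rw [show permOf 1782 outer * a⁻¹ * (permOf 1782 outer)⁻¹ =
      (permOf 1782 outer * a * (permOf 1782 outer)⁻¹)⁻¹ by group]
    exact inv_mem iha

/-- conjugation by the outer permutation -/
noncomputable def outerHom : ↥suzGroup →* ↥suzGroup where
  toFun g := ⟨permOf 1782 outer * g * (permOf 1782 outer)⁻¹, conj_mem g.2⟩
  map_one' := Subtype.ext (by simp)
  map_mul' a b := Subtype.ext (by simp [mul_assoc])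

/-- the outer automorphism -/
noncomputable def outerAut : MulAut ↥suzGroup :=
  MulEquiv.ofBijective outerHom (Finite.injective_iff_bijective.1 fun a b e => by
    have := congrArg (fun g : ↥suzGroup => (g : Equiv.Perm (Fin 1782))) e
    simpa [outerHom] using this)

theorem outerAut_not_inner : outerAut ∉ Inn ↥suzGroup := by
  rintro ⟨c, hc⟩
  set z : Equiv.Perm (Fin 1782) := (c : Equiv.Perm (Fin 1782))⁻¹ * permOf 1782 outer with hz
  have hcomm : ∀ g : ↥suzGroup, z * g = g * z := fun g => by
    have := congrArg (fun φ : MulAut ↥suzGroup => ((φ g : ↥suzGroup) : Equiv.Perm (Fin 1782))) hc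
    change ((c * g * c⁻¹ : ↥suzGroup) : Equiv.Perm (Fin 1782)) =
      permOf 1782 outer * g * (permOf 1782 outer)⁻¹ at this
    rw [Subgroup.coe_mul, Subgroup.coe_mul, Subgroup.coe_inv] at this
    rw [hz, mul_assoc, show permOf 1782 outer * (g : Equiv.Perm (Fin 1782)) =
      (permOf 1782 outer * g * (permOf 1782 outer)⁻¹) * permOf 1782 outer by group, ← this]
    group
  have hf := fix_ok
  simp only [fixOK, Bool.and_eq_true, Bool.or_eq_true, Bool.not_eq_true', Nat.beq_eq] at hf
  obtain ⟨⟨hall, h4⟩, h5⟩ := hf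
  have hz0 : z 0 = 0 := by
    have hh : ∀ a, a < 8 → evW [a] 0 = 0 → evW [a] (z 0 : ℕ) = (z 0 : ℕ) := fun a ha e => by
      have h0 : ((wordVal [a] : ↥suzGroup) : Equiv.Perm (Fin 1782)) 0 = 0 :=
        Fin.ext ((act_word _ (h8 ha) 0).trans e)
      rw [← act_word _ (h8 ha) (z 0)]
      have := congrArg (fun p : Equiv.Perm (Fin 1782) => p 0) (hcomm (wordVal [a]))
      simp only [Equiv.Perm.mul_apply, h0] at this
      rw [← this]
    have hq := allB_spec hall (z 0).2
    simp only [Bool.or_eq_true, Bool.not_eq_true', Nat.beq_eq] at hq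
    rcases hq with hq | hq
    · exact Fin.ext hq
    · rw [hh 4 (by norm_num) h4, hh 5 (by norm_num) h5, Nat.beq_refl] at hq
      exact Bool.noConfusion hq
  have hz1 : z = 1 := Equiv.ext fun q => by
    have := RigidGraph.Suz.pretransitive_suzGroup
    obtain ⟨g, hg⟩ := MulAction.exists_smul_eq ↥suzGroup (0 : Fin 1782) q
    rw [← hg, show g • (0 : Fin 1782) = (g : Equiv.Perm (Fin 1782)) 0 from rfl, Equiv.Perm.one_apply]
    have := congrArg (fun p : Equiv.Perm (Fin 1782) => p 0) (hcomm g)
    simp only [Equiv.Perm.mul_apply, hz0] at this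
    exact this
  rw [hz, inv_mul_eq_one] at hz1
  have h1 := sign_grp c.2
  rw [hz1, sign_outer] at h1
  exact neg_one_ne h1

theorem card_out : Nat.card (Out ↥suzGroup) = 2 := by
  refine le_antisymm card_out_le ?_
  have : Nontrivial (Out ↥suzGroup) :=
    ⟨⟨QuotientGroup.mk outerAut, 1, fun e => outerAut_not_inner ((QuotientGroup.eq_one_iff _).1 e)⟩⟩
  exact Finite.one_lt_card

end Cfsg.Agent.SuzOut
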